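import Mathlib
import Groth.Agent.Lib.Helper2.PullbackNoeth

open IsLocalRing

namespace Groth.Agent.H5.PBC
universe u

section
variable {A E F : Type u} [CommRing A] [CommRing E] [CommRing F] [IsLocalRing A]
    [IsLocalRing E] [IsLocalRing F]
    (f : E →+* A) (g : F →+* A) [IsLocalHom f] [IsLocalHom g]

instance instLocal : IsLocalRing ↥(f.pullback g) := RingHom.isLocalRing_pullback f g

theorem map_fst_maximalIdeal (hg : Function.Surjective g) :
    Ideal.map (f.pullbackFst g) (maximalIdeal ↥(f.pullback g)) = maximalIdeal E := by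
  rw [← maximalIdeal_comap (f.pullbackFst g), Ideal.map_comap_of_surjective _
    (RingHom.surjective_pullbackFst_of_surjective f g hg)]

theorem map_snd_maximalIdeal (hf : Function.Surjective f) :
    Ideal.map (f.pullbackSnd g) (maximalIdeal ↥(f.pullback g)) = maximalIdeal F := by
  rw [← maximalIdeal_comap (f.pullbackSnd g), Ideal.map_comap_of_surjective _
    (RingHom.surjective_pullbackSnd_of_surjective f g hf)]

theorem fst_mem_pow (hg : Function.Surjective g) (n : ℕ) (y : ↥(f.pullback g))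
    (hy : y ∈ maximalIdeal ↥(f.pullback g) ^ n) : y.1.1 ∈ maximalIdeal E ^ n := by
  rw [← map_fst_maximalIdeal f g hg, ← Ideal.map_pow]
  exact Ideal.mem_map_of_mem (f.pullbackFst g) hy

theorem snd_mem_pow (hf : Function.Surjective f) (n : ℕ) (y : ↥(f.pullback g))
    (hy : y ∈ maximalIdeal ↥(f.pullback g) ^ n) : y.1.2 ∈ maximalIdeal F ^ n := by
  rw [← map_snd_maximalIdeal f g hf, ← Ideal.map_pow]
  exact Ideal.mem_map_of_mem (f.pullbackSnd g) hy

theorem mem_smul_top (hf : Function.Surjective f) (hg : Function.Surjective g) (n : ℕ)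
    (e : E) (f' : F) (he : e ∈ maximalIdeal E ^ n) (hf' : f' ∈ maximalIdeal F ^ n) :
    ((e, f') : E × F) ∈
      ((maximalIdeal ↥(f.pullback g)) ^ n • (⊤ : Submodule ↥(f.pullback g) (E × F))) := by
  rw [← map_fst_maximalIdeal f g hg, ← Ideal.map_pow, Ideal.mem_map_iff_of_surjective _
    (RingHom.surjective_pullbackFst_of_surjective f g hg)] at he
  rw [← map_snd_maximalIdeal f g hf, ← Ideal.map_pow, Ideal.mem_map_iff_of_surjective _
    (RingHom.surjective_pullbackSnd_of_surjective f g hf)] at hf'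
  obtain ⟨y, hy, rfl⟩ := he
  obtain ⟨y', hy', rfl⟩ := hf'
  have h1 : (y • ((1, 0) : E × F)) + (y' • ((0, 1) : E × F)) =
      ((f.pullbackFst g) y, (f.pullbackSnd g) y') := by
    show y.1 * ((1, 0) : E × F) + y'.1 * ((0, 1) : E × F) = _
    ext <;> simp
  rw [← h1]
  exact Submodule.add_mem _ (Submodule.smul_mem_smul hy Submodule.mem_top)
    (Submodule.smul_mem_smul hy' Submodule.mem_top)

theorem finite_prod (hf : Function.Surjective f) (hg : Function.Surjective g) :
    Module.Finite ↥(f.pullback g) (E × F) := by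
  classical
  refine ⟨⟨{((1, 0) : E × F), ((0, 1) : E × F)}, ?_⟩⟩
  rw [eq_top_iff]
  rintro ⟨e, f'⟩ -
  obtain ⟨y, hy⟩ := RingHom.surjective_pullbackFst_of_surjective f g hg e
  obtain ⟨y', hy'⟩ := RingHom.surjective_pullbackSnd_of_surjective f g hf f'
  have h1 : (y • ((1, 0) : E × F)) + (y' • ((0, 1) : E × F)) = (e, f') := by
    show y.1 * ((1, 0) : E × F) + y'.1 * ((0, 1) : E × F) = _
    rw [← hy, ← hy']
    ext <;> simp
  rw [← h1]
  refine Submodule.add_mem _ (Submodule.smul_mem _ _ (Submodule.subset_span ?_))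
    (Submodule.smul_mem _ _ (Submodule.subset_span ?_))
  · simp
  · simp

theorem artinRees [IsNoetherianRing E] [IsNoetherianRing F]
    (hf : Function.Surjective f) (hg : Function.Surjective g) :
    ∃ k, ∀ n ≥ k, ∀ y : ↥(f.pullback g),
      (y.1 : E × F) ∈ ((maximalIdeal ↥(f.pullback g)) ^ n •
        (⊤ : Submodule ↥(f.pullback g) (E × F))) →
      y ∈ maximalIdeal ↥(f.pullback g) ^ (n - k) := by
  haveI : IsNoetherianRing ↥(f.pullback g) := Groth.Agent.H2.isNoetherianRing_pullback f g hf hg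
  haveI := finite_prod f g hf hg
  set N : Submodule ↥(f.pullback g) (E × F) :=
    LinearMap.range (Algebra.linearMap ↥(f.pullback g) (E × F)) with hN
  obtain ⟨k, hk⟩ := Ideal.exists_pow_inf_eq_pow_smul (maximalIdeal ↥(f.pullback g)) N
  refine ⟨k, fun n hn y hy => ?_⟩
  have h1 : (y.1 : E × F) ∈ (maximalIdeal ↥(f.pullback g)) ^ n • ⊤ ⊓ N :=
    ⟨hy, ⟨y, rfl⟩⟩
  rw [hk n hn] at h1
  have h2 : (y.1 : E × F) ∈ (maximalIdeal ↥(f.pullback g)) ^ (n - k) • N :=
    Submodule.smul_mono le_rfl inf_le_right h1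
  have key : ∀ z ∈ (maximalIdeal ↥(f.pullback g)) ^ (n - k) • N,
      ∃ y' ∈ (maximalIdeal ↥(f.pullback g)) ^ (n - k), (y'.1 : E × F) = z := by
    intro z hz
    refine Submodule.smul_induction_on hz ?_ ?_
    · intro a ha b hb
      obtain ⟨b', rfl⟩ := hb
      exact ⟨a * b', Ideal.mul_mem_right _ _ ha, rfl⟩
    · intro z z' hz hz'
      obtain ⟨y1, hy1, rfl⟩ := hz
      obtain ⟨y2, hy2, rfl⟩ := hz'
      exact ⟨y1 + y2, Ideal.add_mem _ hy1 hy2, rfl⟩
  obtain ⟨y', hy', hyy⟩ := key _ h2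
  have : y = y' := Subtype.ext hyy.symm
  rw [this]; exact hy'

end

theorem main {A E F : Type u} [CommRing A] [CommRing E] [CommRing F] [IsLocalRing A]
    [IsLocalRing E] [IsLocalRing F] [IsNoetherianRing E] [IsNoetherianRing F]
    [IsAdicComplete (IsLocalRing.maximalIdeal E) E] [IsAdicComplete (IsLocalRing.maximalIdeal F) F]
    (f : E →+* A) (g : F →+* A) [IsLocalHom f] [IsLocalHom g] (hf : Function.Surjective f)
    (hg : Function.Surjective g) :
    ∃ _ : IsLocalRing ↥(f.pullback g), IsNoetherianRing ↥(f.pullback g) ∧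
      IsAdicComplete (IsLocalRing.maximalIdeal ↥(f.pullback g)) ↥(f.pullback g) := by
  haveI hnoeth : IsNoetherianRing ↥(f.pullback g) :=
    Groth.Agent.H2.isNoetherianRing_pullback f g hf hg
  refine ⟨instLocal f g, hnoeth, ?_⟩
  haveI hA : IsNoetherianRing A := isNoetherianRing_of_surjective E A f hf
  set I := maximalIdeal ↥(f.pullback g) with hI
  have hItop : ∀ n, (I ^ n • (⊤ : Submodule ↥(f.pullback g) ↥(f.pullback g))) = I ^ n := by
    intro n
    rw [Ideal.smul_eq_mul, Ideal.mul_top]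
  have hEtop : ∀ n, ((maximalIdeal E) ^ n • (⊤ : Submodule E E)) = (maximalIdeal E) ^ n := by
    intro n
    rw [Ideal.smul_eq_mul, Ideal.mul_top]
  have hFtop : ∀ n, ((maximalIdeal F) ^ n • (⊤ : Submodule F F)) = (maximalIdeal F) ^ n := by
    intro n
    rw [Ideal.smul_eq_mul, Ideal.mul_top]
  have hAtop : ∀ n, ((maximalIdeal A) ^ n • (⊤ : Submodule A A)) = (maximalIdeal A) ^ n := by
    intro n
    rw [Ideal.smul_eq_mul, Ideal.mul_top]
  obtain ⟨k, hk⟩ := artinRees f g hf hg
  have hfm : ∀ n, ∀ e ∈ maximalIdeal E ^ n, f e ∈ maximalIdeal A ^ n := by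
    intro n e he
    have h1 : Ideal.map f (maximalIdeal E) ≤ maximalIdeal A := by
      rw [Ideal.map_le_iff_le_comap, maximalIdeal_comap f]
    have h2 := Ideal.mem_map_of_mem f he
    rw [Ideal.map_pow] at h2
    exact Ideal.pow_right_mono h1 n h2
  have hgm : ∀ n, ∀ e ∈ maximalIdeal F ^ n, g e ∈ maximalIdeal A ^ n := by
    intro n e he
    have h1 : Ideal.map g (maximalIdeal F) ≤ maximalIdeal A := by
      rw [Ideal.map_le_iff_le_comap, maximalIdeal_comap g]
    have h2 := Ideal.mem_map_of_mem g he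
    rw [Ideal.map_pow] at h2
    exact Ideal.pow_right_mono h1 n h2
  refine { toIsHausdorff := inferInstance, toIsPrecomplete := ⟨fun x hx => ?_⟩ }
  have hx' : ∀ {m n}, m ≤ n → x m - x n ∈ I ^ m := by
    intro m n hmn
    have := hx hmn
    rwa [SModEq.sub_mem, hItop] at this
  -- limits in E and F
  obtain ⟨e, he⟩ := IsPrecomplete.prec (I := maximalIdeal E) (M := E) inferInstance
    (f := fun n => (x n).1.1) (by
      intro m n hmn
      rw [SModEq.sub_mem, hEtop]
      exact fst_mem_pow f g hg m _ (hx' hmn))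
  obtain ⟨f', hf'⟩ := IsPrecomplete.prec (I := maximalIdeal F) (M := F) inferInstance
    (f := fun n => (x n).1.2) (by
      intro m n hmn
      rw [SModEq.sub_mem, hFtop]
      exact snd_mem_pow f g hf m _ (hx' hmn))
  have he' : ∀ n, (x n).1.1 - e ∈ maximalIdeal E ^ n := by
    intro n
    have := he n
    rwa [SModEq.sub_mem, hEtop] at this
  have hf'' : ∀ n, (x n).1.2 - f' ∈ maximalIdeal F ^ n := by
    intro n
    have := hf' n
    rwa [SModEq.sub_mem, hFtop] at this
  have hcompat : f e = g f' := by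
    rw [← sub_eq_zero]
    apply IsHausdorff.haus (I := maximalIdeal A) (M := A) inferInstance
    intro n
    rw [SModEq.sub_mem, hAtop, sub_zero]
    have hxn : f (x n).1.1 = g (x n).1.2 := (x n).2
    have : f e - g f' = g ((x n).1.2 - f') - f ((x n).1.1 - e) := by
      rw [map_sub, map_sub, hxn]; ring
    rw [this]
    exact Ideal.sub_mem _ (hgm n _ (hf'' n)) (hfm n _ (he' n))
  let Lim : ↥(f.pullback g) := ⟨(e, f'), hcompat⟩
  refine ⟨Lim, fun n => ?_⟩
  rw [SModEq.sub_mem, hItop]
  have h1 : x n - x (n + k) ∈ I ^ n := hx' (Nat.le_add_right n k)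
  have h2 : x (n + k) - Lim ∈ I ^ (n + k - k) := by
    apply hk (n + k) (Nat.le_add_left k n)
    have : ((x (n + k) - Lim : ↥(f.pullback g)) : E × F) =
        ((x (n + k)).1.1 - e, (x (n + k)).1.2 - f') := rfl
    rw [this]
    exact mem_smul_top f g hf hg (n + k) _ _ (he' (n + k)) (hf'' (n + k))
  rw [Nat.add_sub_cancel] at h2
  have : x n - Lim = (x n - x (n + k)) + (x (n + k) - Lim) := by ring
  rw [this]
  exact Ideal.add_mem _ h1 h2

end Groth.Agent.H5.PBC
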